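import Cfsg.Prelude.Def_LinearParabolics
import Cfsg.Agent.Perm.PermCharacter
import Mathlib

/-!
Marginal tables, double cosets of Young subgroups, and inner products of coset characters.
-/

set_option autoImplicit false
set_option linter.unusedSectionVars false

namespace CfsgLib.GLUnip

open Finset

universe u v

section Label

variable {n : ℕ} (μ : Fin n → ℕ)

theorem lt_compLabel_iff (i a : Fin n) :
    a.val < Cfsg.compLabel μ i ↔ ∑ k ∈ univ.filter (fun k : Fin n => k ≤ a), μ k ≤ i.val := by
  classical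
  unfold Cfsg.compLabel
  constructor
  · intro h
    by_contra hc
    have hsub : (univ.filter fun j : Fin n =>
        (∑ k ∈ univ.filter (fun k : Fin n => k ≤ j), μ k) ≤ i.val) ⊆ Finset.Iio a := by
      intro j hj
      simp only [mem_filter, mem_univ, true_and] at hj
      rw [Finset.mem_Iio]
      by_contra hja
      have hja' : a ≤ j := not_lt.1 hja
      refine hc (le_trans (Finset.sum_le_sum_of_subset ?_) hj)
      intro k hk
      simp only [mem_filter, mem_univ, true_and] at hk ⊢
      exact hk.trans hja'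
    have := Finset.card_le_card hsub
    rw [Fin.card_Iio] at this
    omega
  · intro h
    have hsub : Finset.Iic a ⊆ (univ.filter fun j : Fin n =>
        (∑ k ∈ univ.filter (fun k : Fin n => k ≤ j), μ k) ≤ i.val) := by
      intro j hj
      rw [Finset.mem_Iic] at hj
      simp only [mem_filter, mem_univ, true_and]
      refine le_trans (Finset.sum_le_sum_of_subset ?_) h
      intro k hk
      simp only [mem_filter, mem_univ, true_and] at hk ⊢
      exact hk.trans hj
    have := Finset.card_le_card hsub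
    rw [Fin.card_Iic] at this
    omega

theorem compLabel_lt (hμ : ∑ i, μ i = n) (i : Fin n) : Cfsg.compLabel μ i < n := by
  have hn : 0 < n := lt_of_le_of_lt (Nat.zero_le _) i.2
  by_contra h
  have h' := (lt_compLabel_iff μ i ⟨n - 1, by omega⟩).1 (by simp only; omega)
  have : univ.filter (fun k : Fin n => k ≤ (⟨n - 1, by omega⟩ : Fin n)) = univ := by
    ext k; simp [Fin.le_def]; omega
  rw [this, hμ] at h'
  omega

/-- the block label as a position -/
def lbl (hμ : ∑ i, μ i = n) (i : Fin n) : Fin n := ⟨Cfsg.compLabel μ i, compLabel_lt μ hμ i⟩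

theorem le_compLabel_iff (i a : Fin n) :
    a.val ≤ Cfsg.compLabel μ i ↔ ∑ k ∈ univ.filter (fun k : Fin n => k < a), μ k ≤ i.val := by
  classical
  by_cases ha : a.val = 0
  · have : univ.filter (fun k : Fin n => k < a) = ∅ := by
      ext k; simp [Fin.lt_def, ha]
    simp [this, ha]
  · have hb : a.val - 1 < n := by omega
    have e : univ.filter (fun k : Fin n => k < a) = univ.filter (fun k : Fin n => k ≤ ⟨a.val - 1, hb⟩) := by
      ext k; simp only [mem_filter, mem_univ, true_and, Fin.lt_def, Fin.le_def]; omega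
    rw [e, ← lt_compLabel_iff]
    simp only
    omega

theorem card_lbl (hμ : ∑ i, μ i = n) (a : Fin n) :
    (univ.filter fun i => lbl μ hμ i = a).card = μ a := by
  classical
  set L := ∑ k ∈ univ.filter (fun k : Fin n => k < a), μ k with hL
  have hP : ∑ k ∈ univ.filter (fun k : Fin n => k ≤ a), μ k = L + μ a := by
    have : univ.filter (fun k : Fin n => k ≤ a) = insert a (univ.filter (fun k : Fin n => k < a)) := by
      ext k; simp [le_iff_eq_or_lt]
    rw [this, Finset.sum_insert (by simp), hL]; ring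
  have hle : L + μ a ≤ n := by
    rw [← hP]; exact (Finset.sum_le_sum_of_subset (Finset.subset_univ _)).trans hμ.le
  have himg : (univ.filter fun i => lbl μ hμ i = a).image Fin.val = Finset.Ico L (L + μ a) := by
    ext x
    simp only [mem_image, mem_filter, mem_univ, true_and, Finset.mem_Ico]
    constructor
    · rintro ⟨i, hi, rfl⟩
      have hv : Cfsg.compLabel μ i = a.val := congrArg Fin.val hi
      refine ⟨(le_compLabel_iff μ i a).1 hv.ge, ?_⟩
      by_contra hc
      have := (lt_compLabel_iff μ i a).2 (by rw [hP]; omega)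
      omega
    · rintro ⟨h1, h2⟩
      refine ⟨⟨x, by omega⟩, Fin.ext ?_, rfl⟩
      show Cfsg.compLabel μ ⟨x, _⟩ = a.val
      have h3 := (le_compLabel_iff μ ⟨x, by omega⟩ a).2 h1
      have h4 : ¬ a.val < Cfsg.compLabel μ ⟨x, by omega⟩ := by
        rw [lt_compLabel_iff, hP]; simp only; omega
      omega
  have := congrArg Finset.card himg
  rw [Finset.card_image_of_injective _ Fin.val_injective, Nat.card_Ico] at this
  omega

theorem compLabel_mono : Monotone (Cfsg.compLabel μ) := by
  intro i j hij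
  refine Finset.card_le_card fun k hk => ?_
  simp only [mem_filter, mem_univ, true_and] at hk ⊢
  exact hk.trans hij

end Label

/-- tables of non-negative integers with prescribed margins -/
def Mar {n : ℕ} (α β : Fin n → ℕ) : Type :=
  {M : Fin n → Fin n → ℕ // (∀ a, ∑ b, M a b = α a) ∧ ∀ b, ∑ a, M a b = β b}

/-- number of tables with prescribed margins -/
noncomputable def N {n : ℕ} (α β : Fin n → ℕ) : ℕ := Nat.card (Mar α β)

theorem exists_equiv_of_fibres {A B C : Type*} [Fintype A] [Fintype B] [DecidableEq C]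
    (f : A → C) (g : B → C)
    (h : ∀ c, (univ.filter fun a => f a = c).card = (univ.filter fun b => g b = c).card) :
    ∃ e : A ≃ B, ∀ a, g (e a) = f a := by
  classical
  refine ⟨Equiv.ofFiberEquiv (fun c => Fintype.equivOfCardEq
    (show Fintype.card {a // f a = c} = Fintype.card {b // g b = c} by
      rw [Fintype.card_subtype, Fintype.card_subtype, h])), fun a => ?_⟩
  exact Equiv.ofFiberEquiv_map _ a

theorem avg_fix {G : Type u} [Group G] [Fintype G] {T : Type v} (H K : Subgroup G) (f : G → T)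
    (hH : ∀ g, ∀ h ∈ H, f (h * g) = f g) (hK : ∀ g, ∀ k ∈ K, f (g * k) = f g)
    (hsep : ∀ g g', f g = f g' → ∃ h ∈ H, ∃ k ∈ K, h * g * k = g')
    (hsurj : Function.Surjective f) :
    (Nat.card G : ℂ)⁻¹ * ∑ g, Cfsg.fixedPointCharacter H g * Cfsg.fixedPointCharacter K g
      = Nat.card T := by
  classical
  have hfix : ∀ g : G, Cfsg.fixedPointCharacter H g * Cfsg.fixedPointCharacter K g
      = (Nat.card (MulAction.fixedBy ((G ⧸ H) × (G ⧸ K)) g) : ℂ) := by
    intro g
    unfold Cfsg.fixedPointCharacter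
    rw [← Nat.cast_mul, ← Nat.card_prod]
    congr 1
    refine Nat.card_congr ?_
    exact
      { toFun := fun x => ⟨(x.1.1, x.2.1), Prod.ext x.1.2 x.2.2⟩
        invFun := fun x => (⟨x.1.1, congrArg Prod.fst x.2⟩, ⟨x.1.2, congrArg Prod.snd x.2⟩)
        left_inv := fun x => rfl
        right_inv := fun x => rfl }
  rw [Finset.sum_congr rfl fun g _ => hfix g, CfsgLib.Perm.PermChar.sum_fixed,
    mul_comm _ (Nat.card G : ℂ), inv_mul_cancel_left₀ (CfsgLib.Char.natCard_ne_zero G)]
  norm_cast
  have hwd : ∀ a b a' b' : G, a⁻¹ * a' ∈ H → b⁻¹ * b' ∈ K → f (a⁻¹ * b) = f (a'⁻¹ * b') := by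
    intro a b a' b' ha hb
    have e : a'⁻¹ * b' = (a⁻¹ * a')⁻¹ * (a⁻¹ * b) * (b⁻¹ * b') := by group
    rw [e, hK _ _ hb, hH _ _ (H.inv_mem ha)]
  let F0 : (G ⧸ H) × (G ⧸ K) → T := fun x => Quotient.liftOn₂' x.1 x.2 (fun a b => f (a⁻¹ * b))
    (fun a b a' b' ha hb =>
      hwd a b a' b' (QuotientGroup.leftRel_apply.1 ha) (QuotientGroup.leftRel_apply.1 hb))
  have hF : ∀ (g : G) x, F0 (g • x) = F0 x := by
    rintro g ⟨x, y⟩
    induction x using QuotientGroup.induction_on with | H a => ?_
    induction y using QuotientGroup.induction_on with | H b => ?_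
    show f ((g * a)⁻¹ * (g * b)) = f (a⁻¹ * b)
    congr 1; group
  let F1 : MulAction.orbitRel.Quotient G ((G ⧸ H) × (G ⧸ K)) → T :=
    fun q => Quotient.liftOn' q F0 (fun x y hxy => by
      obtain ⟨g, hg⟩ := MulAction.orbitRel_apply.1 hxy
      rw [← hg]; exact hF g y)
  refine Nat.card_congr (Equiv.ofBijective F1 ⟨?_, ?_⟩)
  · intro p q hpq
    induction p using Quotient.inductionOn' with | h x => ?_
    induction q using Quotient.inductionOn' with | h y => ?_
    obtain ⟨x1, x2⟩ := x
    obtain ⟨y1, y2⟩ := y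
    induction x1 using QuotientGroup.induction_on with | H a => ?_
    induction x2 using QuotientGroup.induction_on with | H b => ?_
    induction y1 using QuotientGroup.induction_on with | H a' => ?_
    induction y2 using QuotientGroup.induction_on with | H b' => ?_
    obtain ⟨h, hh, k, hk, e⟩ := hsep _ _ (show f (a'⁻¹ * b') = f (a⁻¹ * b) from hpq.symm)
    refine Quotient.sound' (MulAction.orbitRel_apply.2 ⟨a * h * a'⁻¹, Prod.ext ?_ ?_⟩)
    · show (((a * h * a'⁻¹) * a' : G) : G ⧸ H) = (a : G ⧸ H)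
      rw [QuotientGroup.eq]
      have e1 : ((a * h * a'⁻¹) * a')⁻¹ * a = h⁻¹ := by group
      rw [e1]; exact H.inv_mem hh
    · show (((a * h * a'⁻¹) * b' : G) : G ⧸ K) = (b : G ⧸ K)
      rw [QuotientGroup.eq]
      have e1 : ((a * h * a'⁻¹) * b')⁻¹ * b = (h * (a'⁻¹ * b'))⁻¹ * (a⁻¹ * b) := by group
      rw [e1, ← e]
      have e2 : (h * (a'⁻¹ * b'))⁻¹ * (h * (a'⁻¹ * b') * k) = k := by group
      rw [e2]; exact hk
  · intro t
    obtain ⟨g, rfl⟩ := hsurj t
    refine ⟨Quotient.mk'' ((1 : G), g), ?_⟩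
    show f (1⁻¹ * g) = f g
    simp

section Perms

variable {n : ℕ}

/-- the number of positions in block `b` sent to block `a` -/
def cnt (la lb : Fin n → Fin n) (w : Equiv.Perm (Fin n)) (a b : Fin n) : ℕ :=
  (univ.filter fun i => lb i = b ∧ la (w i) = a).card

theorem cnt_row (la lb : Fin n → Fin n) (w : Equiv.Perm (Fin n)) (a : Fin n) :
    ∑ b, cnt la lb w a b = (univ.filter fun i => la i = a).card := by
  classical
  have h1 : ∑ b, cnt la lb w a b = (univ.filter fun i => la (w i) = a).card := by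
    rw [Finset.card_eq_sum_card_fiberwise (f := lb) (t := univ) (fun i _ => mem_univ _)]
    refine Finset.sum_congr rfl fun b _ => ?_
    unfold cnt
    congr 1
    ext i; simp [and_comm]
  rw [h1]
  exact Finset.card_equiv w (fun i => by simp)

theorem cnt_col (la lb : Fin n → Fin n) (w : Equiv.Perm (Fin n)) (b : Fin n) :
    ∑ a, cnt la lb w a b = (univ.filter fun i => lb i = b).card := by
  classical
  rw [Finset.card_eq_sum_card_fiberwise (f := fun i => la (w i)) (t := univ) (fun i _ => mem_univ _)]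
  refine Finset.sum_congr rfl fun a _ => ?_
  unfold cnt
  congr 1
  ext i; simp

theorem exists_young (la lb : Fin n → Fin n) (w w' : Equiv.Perm (Fin n))
    (h : cnt la lb w = cnt la lb w') :
    ∃ p q : Equiv.Perm (Fin n), (∀ i, la (p i) = la i) ∧ (∀ i, lb (q i) = lb i) ∧ p * w * q = w' := by
  classical
  obtain ⟨k, hk⟩ := exists_equiv_of_fibres (fun i => (la (w' i), lb i)) (fun i => (la (w i), lb i))
    (fun c => by
      have := congrFun (congrFun h c.1) c.2
      unfold cnt at this
      convert this.symm using 2 <;> ext i <;> simp [Prod.ext_iff, and_comm])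
  refine ⟨w' * k⁻¹ * w⁻¹, k, fun i => ?_, fun i => congrArg Prod.snd (hk i), by group⟩
  have := congrArg Prod.fst (hk (k⁻¹ (w⁻¹ i)))
  simp only [Equiv.Perm.coe_inv, Equiv.apply_symm_apply] at this
  simp only [Equiv.Perm.mul_apply, Equiv.Perm.coe_inv]
  exact this.symm

variable (α β : Fin n → ℕ) (hα : ∑ i, α i = n) (hβ : ∑ i, β i = n)

/-- the table of a permutation -/
def tab (w : Equiv.Perm (Fin n)) : Mar α β :=
  ⟨cnt (lbl α hα) (lbl β hβ) w, fun a => (cnt_row _ _ w a).trans (card_lbl α hα a),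
    fun b => (cnt_col _ _ w b).trans (card_lbl β hβ b)⟩

theorem tab_surjective : Function.Surjective (tab α β hα hβ) := by
  classical
  rintro ⟨M, hM1, hM2⟩
  let Ω := Σ ab : Fin n × Fin n, Fin (M ab.1 ab.2)
  have hcard : ∀ P : Fin n × Fin n → Prop, ∀ [DecidablePred P],
      (univ.filter fun x : Ω => P x.1).card = ∑ ab, if P ab then M ab.1 ab.2 else 0 := by
    intro P _
    rw [Finset.card_filter, Fintype.sum_sigma]
    refine Finset.sum_congr rfl fun ab _ => ?_
    split <;> simp
  obtain ⟨e1, he1⟩ := exists_equiv_of_fibres (lbl β hβ) (fun x : Ω => x.1.2) (fun b => by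
    rw [card_lbl, hcard (fun ab => ab.2 = b), Fintype.sum_prod_type, ← hM2 b]
    simp)
  obtain ⟨e2, he2⟩ := exists_equiv_of_fibres (lbl α hα) (fun x : Ω => x.1.1) (fun a => by
    rw [card_lbl, hcard (fun ab => ab.1 = a), Fintype.sum_prod_type, Finset.sum_comm, ← hM1 a]
    simp)
  refine ⟨e1.trans e2.symm, Subtype.ext (funext₂ fun a b => ?_)⟩
  show cnt _ _ _ a b = M a b
  unfold cnt
  have h := hcard (fun ab => ab = (a, b))
  rw [Finset.sum_ite_eq' univ (a, b)] at h
  simp only [mem_univ, if_true] at h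
  rw [← h]
  refine Finset.card_equiv e1 (fun i => ?_)
  have h1 := he1 i
  have h2 := he2 (e2.symm (e1 i))
  simp only [Equiv.apply_symm_apply] at h2
  constructor
  · intro hu
    obtain ⟨u, v⟩ := (Finset.mem_filter.1 hu).2
    exact Finset.mem_filter.2 ⟨mem_univ _, Prod.ext (h2.trans v) (h1.trans u)⟩
  · intro hu
    have u := (Finset.mem_filter.1 hu).2
    exact Finset.mem_filter.2 ⟨mem_univ _, h1.symm.trans (congrArg Prod.snd u),
      h2.symm.trans (congrArg Prod.fst u)⟩

theorem tab_left {w p : Equiv.Perm (Fin n)} (hp : p ∈ Cfsg.youngSubgroup α) :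
    tab α β hα hβ (p * w) = tab α β hα hβ w := by
  refine Subtype.ext (funext₂ fun a b => ?_)
  show cnt _ _ _ a b = cnt _ _ _ a b
  unfold cnt
  refine congrArg Finset.card (Finset.filter_congr fun i _ => ?_)
  have : lbl α hα (p (w i)) = lbl α hα (w i) := Fin.ext (hp (w i))
  rw [Equiv.Perm.mul_apply, this]

theorem tab_right {w q : Equiv.Perm (Fin n)} (hq : q ∈ Cfsg.youngSubgroup β) :
    tab α β hα hβ (w * q) = tab α β hα hβ w := by
  refine Subtype.ext (funext₂ fun a b => ?_)
  show cnt _ _ _ a b = cnt _ _ _ a b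
  unfold cnt
  refine Finset.card_equiv q (fun i => ?_)
  have : lbl β hβ (q i) = lbl β hβ i := Fin.ext (hq i)
  constructor
  · intro hu
    obtain ⟨u, v⟩ := (Finset.mem_filter.1 hu).2
    exact Finset.mem_filter.2 ⟨mem_univ _, this.trans u, v⟩
  · intro hu
    obtain ⟨u, v⟩ := (Finset.mem_filter.1 hu).2
    exact Finset.mem_filter.2 ⟨mem_univ _, this.symm.trans u, v⟩

theorem tab_sep {w w' : Equiv.Perm (Fin n)} (h : tab α β hα hβ w = tab α β hα hβ w') :
    ∃ p ∈ Cfsg.youngSubgroup α, ∃ q ∈ Cfsg.youngSubgroup β, p * w * q = w' := by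
  obtain ⟨p, q, hp, hq, e⟩ := exists_young (lbl α hα) (lbl β hβ) w w' (congrArg Subtype.val h)
  exact ⟨p, fun i => congrArg Fin.val (hp i), q, fun i => congrArg Fin.val (hq i), e⟩

include hα hβ in
theorem avg_young :
    (Nat.card (Equiv.Perm (Fin n)) : ℂ)⁻¹ * ∑ σ, Cfsg.fixedPointCharacter (Cfsg.youngSubgroup α) σ *
      Cfsg.fixedPointCharacter (Cfsg.youngSubgroup β) σ = N α β :=
  avg_fix _ _ (tab α β hα hβ) (fun _ _ hp => tab_left α β hα hβ hp)
    (fun _ _ hq => tab_right α β hα hβ hq) (fun _ _ h => tab_sep α β hα hβ h)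
    (tab_surjective α β hα hβ)

end Perms

end CfsgLib.GLUnip
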