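import Cfsg.Agent.GLUnip.Basic

/-!
Bruhat form of an invertible matrix and inner products of parabolic coset characters.
-/

set_option autoImplicit false
set_option linter.unusedSectionVars false

namespace CfsgLib.GLUnip

open Finset
open scoped MatrixGroups

universe u

variable {n : ℕ} {F : Type u} [Field F]

/-- the matrix of a permutation, column `c` being the unit vector at `w c` -/
def permMat (w : Equiv.Perm (Fin n)) : Matrix (Fin n) (Fin n) F := (1 : Matrix _ _ F).submatrix id w

theorem permMat_apply (w : Equiv.Perm (Fin n)) (r c : Fin n) :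
    (permMat w : Matrix (Fin n) (Fin n) F) r c = if r = w c then 1 else 0 := by
  simp [permMat, Matrix.one_apply]

theorem mul_permMat_apply (M : Matrix (Fin n) (Fin n) F) (w : Equiv.Perm (Fin n)) (r c : Fin n) :
    (M * (permMat w : Matrix (Fin n) (Fin n) F)) r c = M r (w c) := by
  simp [Matrix.mul_apply, permMat_apply]

theorem permMat_mul (w v : Equiv.Perm (Fin n)) :
    (permMat w * permMat v : Matrix (Fin n) (Fin n) F) = permMat (w * v) := by
  ext r c
  rw [mul_permMat_apply, permMat_apply, permMat_apply, Equiv.Perm.mul_apply]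

theorem permMat_one : (permMat (1 : Equiv.Perm (Fin n)) : Matrix (Fin n) (Fin n) F) = 1 := by
  ext r c; rw [permMat_apply, Matrix.one_apply]; rfl

/-- permutation matrices as a homomorphism -/
def permGL (n : ℕ) (F : Type u) [Field F] : Equiv.Perm (Fin n) →* GL (Fin n) F :=
  MonoidHom.toHomUnits
    { toFun := permMat
      map_one' := permMat_one
      map_mul' := fun w v => (permMat_mul w v).symm }

theorem permGL_val (w : Equiv.Perm (Fin n)) :
    ((permGL n F w : GL (Fin n) F) : Matrix (Fin n) (Fin n) F) = permMat w := rfl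

theorem permGL_mem {μ : Fin n → ℕ} {p : Equiv.Perm (Fin n)} (hp : p ∈ Cfsg.youngSubgroup μ) :
    permGL n F p ∈ Cfsg.parabolicGL n F μ := by
  intro r c hrc
  rw [permGL_val, permMat_apply, if_neg]
  rintro rfl
  rw [hp c] at hrc
  exact lt_irrefl _ hrc

theorem upper_le (μ : Fin n → ℕ) : Cfsg.upperTriangularGL n F ≤ Cfsg.parabolicGL n F μ := by
  intro g hg r c hrc
  exact hg (lt_of_not_ge fun h => not_lt.2 (compLabel_mono μ h) hrc)

open Classical in
theorem exists_bruhat (g : GL (Fin n) F) :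
    ∃ b ∈ Cfsg.upperTriangularGL n F, ∃ b' ∈ Cfsg.upperTriangularGL n F, ∃ w : Equiv.Perm (Fin n),
      g = b * permGL n F w * b' := by
  set G := (g : Matrix (Fin n) (Fin n) F) with hG
  have hGu : IsUnit G.det := by
    rw [← Matrix.isUnit_iff_isUnit_det]; exact g.isUnit
  let S : Fin n → (Fin n → F) → Prop := fun j v => v j = 1 ∧ ∀ k, j < k → v k = 0
  let piv : Fin n → Fin n → Prop :=
    fun j r => ∃ v, S j v ∧ G.mulVec v r ≠ 0 ∧ ∀ s, r < s → G.mulVec v s = 0
  have htop : ∀ v : Fin n → F, v ≠ 0 → ∃ r, G.mulVec v r ≠ 0 ∧ ∀ s, r < s → G.mulVec v s = 0 := by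
    intro v hv
    have hne : (univ.filter fun r => G.mulVec v r ≠ 0).Nonempty := by
      by_contra hc
      refine hv (Matrix.mulVec_injective_of_isUnit ((Matrix.isUnit_iff_isUnit_det G).2 hGu) ?_)
      rw [Matrix.mulVec_zero]
      funext r
      by_contra hr
      exact hc ⟨r, by simpa using hr⟩
    refine ⟨_, (mem_filter.1 (Finset.max'_mem _ hne)).2, fun s hs => ?_⟩
    by_contra hs'
    exact absurd (Finset.le_max' _ s (by simpa using hs')) (not_le.2 hs)
  have hSne : ∀ {j v}, S j v → v ≠ 0 := fun {j v} h h0 => by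
    have := h.1; rw [h0] at this; simp at this
  have hex : ∀ j, (univ.filter fun r => piv j r).Nonempty := by
    intro j
    have hs : S j (Pi.single j 1) :=
      ⟨by simp, fun k hk => by rw [Pi.single_eq_of_ne (ne_of_gt hk)]⟩
    obtain ⟨r, hr⟩ := htop _ (hSne hs)
    exact ⟨r, by simpa using ⟨_, hs, hr⟩⟩
  let w0 : Fin n → Fin n := fun j => Finset.min' _ (hex j)
  have hw0 : ∀ j, piv j (w0 j) := fun j => (mem_filter.1 (Finset.min'_mem _ (hex j))).2
  choose u hu using hw0
  have hinj : ∀ i j, i < j → w0 i ≠ w0 j := by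
    intro i j hij e
    obtain ⟨hSj, hj1, hj2⟩ := hu j
    obtain ⟨hSi, hi1, hi2⟩ := hu i
    set c := G.mulVec (u j) (w0 j) / G.mulVec (u i) (w0 i)
    have hS : S j (u j - c • u i) := by
      refine ⟨?_, fun k hk => ?_⟩
      · simp [hSj.1, hSi.2 j hij]
      · simp [hSj.2 k hk, hSi.2 k (hij.trans hk)]
    have hval : ∀ s, w0 j ≤ s → G.mulVec (u j - c • u i) s = 0 := by
      intro s hs
      rw [Matrix.mulVec_sub, Matrix.mulVec_smul, Pi.sub_apply, Pi.smul_apply, smul_eq_mul]
      rcases eq_or_lt_of_le hs with h | h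
      · subst h
        have : G.mulVec (u i) (w0 j) = G.mulVec (u i) (w0 i) := by rw [e]
        rw [this, div_mul_cancel₀ _ hi1, sub_self]
      · rw [hj2 s h, hi2 s (e ▸ h), mul_zero, sub_zero]
    obtain ⟨r, hr1, hr2⟩ := htop _ (hSne hS)
    have hrlt : r < w0 j := lt_of_not_ge fun h => hr1 (hval r h)
    exact absurd (Finset.min'_le _ r (by simpa using ⟨_, hS, hr1, hr2⟩)) (not_le.2 hrlt)
  have hinj' : Function.Injective w0 := fun i j e => by
    rcases lt_trichotomy i j with h | h | h
    · exact absurd e (hinj i j h)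
    · exact h
    · exact absurd e.symm (hinj j i h)
  let w : Equiv.Perm (Fin n) := Equiv.ofBijective w0 hinj'.bijective_of_finite
  let U : Matrix (Fin n) (Fin n) F := Matrix.of fun k j => u j k
  have hUt : U.BlockTriangular id := fun k j hjk => (hu j).1.2 k hjk
  have hUu : IsUnit U := by
    rw [Matrix.isUnit_iff_isUnit_det, Matrix.det_of_upperTriangular hUt]
    simp [U, (hu _).1.1]
  let uu : GL (Fin n) F := hUu.unit
  have huu : uu ∈ Cfsg.upperTriangularGL n F := hUt
  refine ⟨g * uu * (permGL n F w)⁻¹, ?_, uu⁻¹, Subgroup.inv_mem _ huu, w, by group⟩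
  intro r k hkr
  rw [← map_inv, Units.val_mul, Units.val_mul, permGL_val, mul_permMat_apply]
  have hk : w0 (w⁻¹ k) = k := w.apply_symm_apply k
  have : (G * U) r (w⁻¹ k) = G.mulVec (u (w⁻¹ k)) r := rfl
  show (G * U) r (w⁻¹ k) = 0
  rw [this]
  exact (hu (w⁻¹ k)).2.2 r (by rw [hk]; exact hkr)

theorem cum_le {la lb : Fin n → ℕ} {A B : Matrix (Fin n) (Fin n) F} (hA : A.BlockTriangular la)
    (hB : B.BlockTriangular lb) {w w' : Equiv.Perm (Fin n)} (e : permMat w' = A * permMat w * B)
    (a b : ℕ) :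
    (univ.filter fun c => lb c < b ∧ a ≤ la (w' c)).card
      ≤ (univ.filter fun c => lb c < b ∧ a ≤ la (w c)).card := by
  classical
  set C' := univ.filter fun c => lb c < b ∧ a ≤ la (w' c) with hC'
  set C := univ.filter fun c => lb c < b ∧ a ≤ la (w c) with hC
  let A1 : Matrix {c // c ∈ C'} {c // c ∈ C} F := Matrix.of fun i t => A (w' i.1) (w t.1)
  let B1 : Matrix {c // c ∈ C} {c // c ∈ C'} F := Matrix.of fun t j => B t.1 j.1
  have h1 : A1 * B1 = 1 := by
    ext i j
    have hi := (mem_filter.1 i.2).2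
    have hj := (mem_filter.1 j.2).2
    have h := congrFun (congrFun e (w' i.1)) j.1
    rw [permMat_apply, Matrix.mul_apply] at h
    simp only [mul_permMat_apply] at h
    rw [Matrix.one_apply]
    rw [← Finset.sum_subset (Finset.subset_univ C) (fun t _ ht => ?_)] at h
    · rw [Matrix.mul_apply]
      show ∑ t : {c // c ∈ C}, A (w' i.1) (w t.1) * B t.1 j.1 = _
      rw [Finset.sum_coe_sort C (fun t => A (w' i.1) (w t) * B t j.1), ← h]
      by_cases hij : i = j
      · simp [hij]
      · rw [if_neg hij, if_neg]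
        exact fun e' => hij (Subtype.ext (w'.injective e'))
    · by_cases h2 : lb t < b
      · have h3 : ¬ a ≤ la (w t) := fun h3 => ht (mem_filter.2 ⟨mem_univ _, h2, h3⟩)
        rw [hA (lt_of_lt_of_le (not_le.1 h3) hi.2), zero_mul]
      · rw [hB (lt_of_lt_of_le hj.1 (not_lt.1 h2)), mul_zero]
  have h2 := Matrix.rank_mul_le_right A1 B1
  rw [h1, Matrix.rank_one] at h2
  have h3 := h2.trans (Matrix.rank_le_card_height B1)
  simpa using h3

theorem cum_recover (fa fb : Fin n → ℕ) (a b : ℕ) :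
    (univ.filter fun c => fb c = b ∧ fa c = a).card
        + (univ.filter fun c => fb c < b ∧ a ≤ fa c).card
        + (univ.filter fun c => fb c < b + 1 ∧ a + 1 ≤ fa c).card
      = (univ.filter fun c => fb c < b + 1 ∧ a ≤ fa c).card
        + (univ.filter fun c => fb c < b ∧ a + 1 ≤ fa c).card := by
  simp only [Finset.card_filter, ← Finset.sum_add_distrib]
  refine Finset.sum_congr rfl fun c _ => ?_
  split_ifs <;> omega

variable (α β : Fin n → ℕ) (hα : ∑ i, α i = n) (hβ : ∑ i, β i = n)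

theorem tab_eq_of_coset {w w' : Equiv.Perm (Fin n)} {p q : GL (Fin n) F}
    (hp : p ∈ Cfsg.parabolicGL n F α) (hq : q ∈ Cfsg.parabolicGL n F β)
    (e : permGL n F w' = p * permGL n F w * q) :
    tab α β hα hβ w' = tab α β hα hβ w := by
  classical
  have h1 : ∀ a b, (univ.filter fun c => Cfsg.compLabel β c < b ∧ a ≤ Cfsg.compLabel α (w' c)).card
      = (univ.filter fun c => Cfsg.compLabel β c < b ∧ a ≤ Cfsg.compLabel α (w c)).card := by
    intro a b
    refine le_antisymm (cum_le hp hq ?_ a b) (cum_le ((Subgroup.inv_mem _ hp : _) : p⁻¹ ∈ _)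
      ((Subgroup.inv_mem _ hq : _) : q⁻¹ ∈ _) ?_ a b)
    · rw [← permGL_val, e]; rfl
    · have : permGL n F w = p⁻¹ * permGL n F w' * q⁻¹ := by rw [e]; group
      rw [← permGL_val, this]; rfl
  refine Subtype.ext (funext₂ fun a b => ?_)
  show cnt _ _ _ a b = cnt _ _ _ a b
  unfold cnt
  have hw := cum_recover (fun c => Cfsg.compLabel α (w c)) (Cfsg.compLabel β) a.val b.val
  have hw' := cum_recover (fun c => Cfsg.compLabel α (w' c)) (Cfsg.compLabel β) a.val b.val
  rw [h1, h1, h1, h1] at hw'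
  have key : ∀ v : Equiv.Perm (Fin n),
      (univ.filter fun c => lbl β hβ c = b ∧ lbl α hα (v c) = a)
        = univ.filter fun c => Cfsg.compLabel β c = b.val ∧ Cfsg.compLabel α (v c) = a.val :=
    fun v => Finset.filter_congr fun c _ => and_congr Fin.ext_iff Fin.ext_iff
  rw [key, key]
  omega

/-- a Bruhat permutation of a matrix -/
noncomputable def bperm (g : GL (Fin n) F) : Equiv.Perm (Fin n) :=
  (exists_bruhat g).choose_spec.2.choose_spec.2.choose

theorem bperm_spec (g : GL (Fin n) F) (μ ν : Fin n → ℕ) :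
    ∃ b ∈ Cfsg.parabolicGL n F μ, ∃ b' ∈ Cfsg.parabolicGL n F ν,
      g = b * permGL n F (bperm g) * b' := by
  refine ⟨_, upper_le μ (exists_bruhat g).choose_spec.1, _,
    upper_le ν (exists_bruhat g).choose_spec.2.choose_spec.1,
    (exists_bruhat g).choose_spec.2.choose_spec.2.choose_spec⟩

theorem tab_bperm_mul {g h k : GL (Fin n) F} (hh : h ∈ Cfsg.parabolicGL n F α)
    (hk : k ∈ Cfsg.parabolicGL n F β) :
    tab α β hα hβ (bperm (h * g * k)) = tab α β hα hβ (bperm g) := by
  obtain ⟨b, hb, b', hb', e⟩ := bperm_spec g α β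
  obtain ⟨c, hc, c', hc', e'⟩ := bperm_spec (h * g * k) α β
  refine tab_eq_of_coset α β hα hβ (p := c⁻¹ * h * b) (q := b' * k * c'⁻¹)
    (mul_mem (mul_mem (Subgroup.inv_mem _ hc) hh) hb)
    (mul_mem (mul_mem hb' hk) (Subgroup.inv_mem _ hc')) ?_
  calc permGL n F (bperm (h * g * k)) = c⁻¹ * (h * g * k) * c'⁻¹ := by
        conv_rhs => rw [e']
        group
    _ = _ := by
        conv_lhs => rw [e]
        group

include hα hβ in
theorem avg_parabolic [Fintype (GL (Fin n) F)] :
    (Nat.card (GL (Fin n) F) : ℂ)⁻¹ * ∑ g, Cfsg.fixedPointCharacter (Cfsg.parabolicGL n F α) g *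
      Cfsg.fixedPointCharacter (Cfsg.parabolicGL n F β) g = N α β := by
  refine avg_fix _ _ (fun g => tab α β hα hβ (bperm g)) (fun g h hh => ?_) (fun g k hk => ?_)
    (fun g g' e => ?_) (fun t => ?_)
  · simpa using tab_bperm_mul α β hα hβ (g := g) hh (one_mem (Cfsg.parabolicGL n F β))
  · simpa using tab_bperm_mul α β hα hβ (g := g) (one_mem (Cfsg.parabolicGL n F α)) hk
  · obtain ⟨p, hp, q, hq, epq⟩ := tab_sep α β hα hβ e
    obtain ⟨b, hb, b', hb', eg⟩ := bperm_spec g α β
    obtain ⟨c, hc, c', hc', eg'⟩ := bperm_spec g' α β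
    refine ⟨c * permGL n F p * b⁻¹, mul_mem (mul_mem hc (permGL_mem hp)) (Subgroup.inv_mem _ hb),
      b'⁻¹ * permGL n F q * c', mul_mem (mul_mem (Subgroup.inv_mem _ hb') (permGL_mem hq)) hc', ?_⟩
    calc _ = c * permGL n F p * b⁻¹ * (b * permGL n F (bperm g) * b') * (b'⁻¹ * permGL n F q * c') := by
          rw [← eg]
      _ = c * permGL n F (p * bperm g * q) * c' := by
          rw [map_mul, map_mul]; group
      _ = g' := by rw [epq, ← eg']
  · obtain ⟨w, rfl⟩ := tab_surjective α β hα hβ t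
    refine ⟨permGL n F w, ?_⟩
    obtain ⟨b, hb, b', hb', e⟩ := bperm_spec (permGL n F w) α β
    exact (tab_eq_of_coset α β hα hβ hb hb' e).symm

end CfsgLib.GLUnip
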