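import Cfsg.Agent.GLUnip.Basic

/-!
The index of a standard parabolic subgroup of the general linear group.
-/

set_option autoImplicit false
set_option linter.unusedSectionVars false

namespace CfsgLib.GLUnip

open Finset
open scoped MatrixGroups

universe u

variable {n : ℕ} {F : Type u} [Field F] [Fintype F]

/-- product of quantum integers -/
def qfac (q m : ℕ) : ℕ := ∏ j ∈ range m, ∑ l ∈ range (j + 1), q ^ l

theorem card_gl (m : ℕ) :
    Nat.card (GL (Fin m) F) = (Fintype.card F - 1) ^ m * Fintype.card F ^ (m.choose 2)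
      * qfac (Fintype.card F) m := by
  set q := Fintype.card F with hq
  have hq1 : 1 ≤ q := Fintype.card_pos
  rw [Matrix.card_GL_field, Fin.prod_univ_eq_prod_range (fun i => q ^ m - q ^ i) m]
  have h : ∀ i ∈ range m, q ^ m - q ^ i
      = (q - 1) * q ^ i * ∑ l ∈ range (m - 1 - i + 1), q ^ l := by
    intro i hi
    have him : i < m := Finset.mem_range.1 hi
    rw [show m - 1 - i + 1 = m - i by omega, mul_comm (q - 1), mul_assoc, mul_comm (q - 1),
      geom_sum_mul_of_one_le hq1, Nat.mul_sub, mul_one, ← pow_add, Nat.add_sub_cancel' him.le]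
  rw [Finset.prod_congr rfl h, Finset.prod_mul_distrib, Finset.prod_mul_distrib, Finset.prod_const,
    Finset.card_range, Finset.prod_pow_eq_pow_sum, Finset.sum_range_id, ← Nat.choose_two_right,
    Finset.prod_range_reflect (fun j => ∑ l ∈ range (j + 1), q ^ l) m]
  rfl

variable (μ : Fin n → ℕ) (hμ : ∑ i, μ i = n)

open Classical in
/-- block decomposition of a parabolic subgroup -/
noncomputable def parEquiv : Cfsg.parabolicGL n F μ ≃
    (Π a : Fin n, GL {i // lbl μ hμ i = a} F) ×
      ({p : Fin n × Fin n // lbl μ hμ p.1 < lbl μ hμ p.2} → F) where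
  toFun g :=
    (fun a => Matrix.GeneralLinearGroup.mkOfDetNeZero
      (((g : GL (Fin n) F) : Matrix (Fin n) (Fin n) F).toSquareBlock (lbl μ hμ) a) (by
        intro h0
        have hT : ((g : GL (Fin n) F) : Matrix (Fin n) (Fin n) F).BlockTriangular (lbl μ hμ) :=
          fun i j hij => g.2 hij
        have hd : IsUnit ((g : GL (Fin n) F) : Matrix (Fin n) (Fin n) F).det :=
          (Matrix.isUnit_iff_isUnit_det _).1 (g : GL (Fin n) F).isUnit
        refine hd.ne_zero ?_
        rw [hT.det]
        by_cases ha : a ∈ univ.image (lbl μ hμ)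
        · exact Finset.prod_eq_zero ha h0
        · haveI : IsEmpty {i // lbl μ hμ i = a} :=
            ⟨fun i => ha (Finset.mem_image.2 ⟨i.1, mem_univ _, i.2⟩)⟩
          rw [Matrix.det_isEmpty] at h0
          exact absurd h0 one_ne_zero),
     fun p => ((g : GL (Fin n) F) : Matrix (Fin n) (Fin n) F) p.1.1 p.1.2)
  invFun x :=
    ⟨Matrix.GeneralLinearGroup.mkOfDetNeZero
      (Matrix.of fun i j => if h : lbl μ hμ i < lbl μ hμ j then x.2 ⟨(i, j), h⟩
        else if h' : lbl μ hμ j = lbl μ hμ i then (x.1 (lbl μ hμ i)).val ⟨i, rfl⟩ ⟨j, h'⟩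
        else 0) (by
        set M : Matrix (Fin n) (Fin n) F := Matrix.of fun i j => if h : lbl μ hμ i < lbl μ hμ j then
          x.2 ⟨(i, j), h⟩
          else if h' : lbl μ hμ j = lbl μ hμ i then (x.1 (lbl μ hμ i)).val ⟨i, rfl⟩ ⟨j, h'⟩
          else 0 with hM
        have hT : M.BlockTriangular (lbl μ hμ) := by
          intro i j hij
          rw [hM, Matrix.of_apply, dif_neg (not_lt.2 hij.le), dif_neg (ne_of_lt hij)]
        rw [hT.det, Finset.prod_ne_zero_iff]
        intro a _
        have : M.toSquareBlock (lbl μ hμ) a = (x.1 a).val := by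
          ext ⟨i, hi⟩ ⟨j, hj⟩
          subst hi
          simp only [Matrix.toSquareBlock_def, Matrix.of_apply, hM]
          rw [dif_neg (by rw [hj]; exact lt_irrefl _), dif_pos hj]
        rw [this]
        exact ((Matrix.isUnit_iff_isUnit_det _).1 (x.1 a).isUnit).ne_zero),
     by
      intro i j hij
      have hij' : lbl μ hμ j < lbl μ hμ i := hij
      exact (dif_neg (not_lt.2 hij'.le)).trans (dif_neg (ne_of_lt hij'))⟩
  left_inv g := by
    apply Subtype.ext
    apply Units.ext
    ext1 i j
    simp only [Matrix.GeneralLinearGroup.mkOfDetNeZero]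
    show (dite _ _ _ : F) = _
    split
    · rfl
    · split
      · rfl
      · rename_i h1 h2
        exact (g.2 (show lbl μ hμ j < lbl μ hμ i from lt_of_le_of_ne (not_lt.1 h1) h2)).symm
  right_inv x := by
    refine Prod.ext (funext fun a => Units.ext ?_) (funext fun p => dif_pos p.2)
    ext ⟨i, hi⟩ ⟨j, hj⟩
    subst hi
    exact (dif_neg (by rw [hj]; exact lt_irrefl _)).trans (dif_pos hj)

theorem card_gl_block (a : Fin n) :
    Nat.card (GL {i // lbl μ hμ i = a} F) = Nat.card (GL (Fin (μ a)) F) := by
  classical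
  have e : {i // lbl μ hμ i = a} ≃ Fin (μ a) := Fintype.equivFinOfCardEq
    (by rw [Fintype.card_subtype]; exact card_lbl μ hμ a)
  exact Nat.card_congr (Units.mapEquiv (Matrix.reindexAlgEquiv F F e).toMulEquiv).toEquiv

include hμ in
theorem exponent_eq :
    (∑ a, (μ a).choose 2) + Nat.card {p : Fin n × Fin n // lbl μ hμ p.1 < lbl μ hμ p.2}
      = n.choose 2 := by
  classical
  set l := lbl μ hμ
  set A := (univ.filter fun p : Fin n × Fin n => l p.1 < l p.2).card with hA
  have hB : (univ.filter fun p : Fin n × Fin n => l p.2 < l p.1).card = A :=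
    Finset.card_equiv (Equiv.prodComm _ _) (fun p => by simp)
  have hC : (univ.filter fun p : Fin n × Fin n => l p.1 = l p.2).card = ∑ a, μ a * μ a := by
    rw [Finset.card_eq_sum_card_fiberwise (f := fun p : Fin n × Fin n => l p.1) (t := univ)
      (fun p _ => mem_univ _)]
    refine Finset.sum_congr rfl fun a _ => ?_
    have : (univ.filter fun p : Fin n × Fin n => l p.1 = l p.2).filter (fun p => l p.1 = a)
        = (univ.filter fun i => l i = a) ×ˢ (univ.filter fun i => l i = a) := by
      ext p; simp only [mem_filter, mem_univ, true_and, mem_product]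
      constructor
      · rintro ⟨h1, h2⟩; exact ⟨h2, h1 ▸ h2⟩
      · rintro ⟨h1, h2⟩; exact ⟨h1.trans h2.symm, h1⟩
    rw [this, Finset.card_product, card_lbl]
  have htot : A + (univ.filter fun p : Fin n × Fin n => l p.2 < l p.1).card
      + (univ.filter fun p : Fin n × Fin n => l p.1 = l p.2).card = n * n := by
    rw [hA, Finset.card_filter, Finset.card_filter, Finset.card_filter, ← Finset.sum_add_distrib,
      ← Finset.sum_add_distrib]
    rw [Finset.sum_congr rfl (g := fun _ => 1) (fun p _ => by
      rcases lt_trichotomy (l p.1) (l p.2) with h | h | h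
      · simp [h, h.not_gt, h.ne]
      · simp [h]
      · simp [h, h.not_gt, h.ne'])]
    simp
  rw [Nat.card_eq_fintype_card, Fintype.card_subtype]
  have key : ∀ m : ℕ, 2 * m.choose 2 + m = m * m := by
    intro m
    induction m with
    | zero => rfl
    | succ k ih =>
      rw [Nat.choose_succ_succ', Nat.choose_one_right]
      calc _ = (2 * k.choose 2 + k) + (2 * k + 1) := by ring
        _ = k * k + (2 * k + 1) := by rw [ih]
        _ = _ := by ring
  have hsum : 2 * (∑ a, (μ a).choose 2) + n = ∑ a, μ a * μ a := by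
    rw [Finset.mul_sum]
    conv_lhs => arg 2; rw [← hμ]
    rw [← Finset.sum_add_distrib]
    exact Finset.sum_congr rfl fun a _ => key (μ a)
  have := key n
  rw [hB, hC] at htot
  omega

include hμ in
theorem card_cosets :
    Nat.card (GL (Fin n) F ⧸ Cfsg.parabolicGL n F μ) * ∏ i, qfac (Fintype.card F) (μ i)
      = qfac (Fintype.card F) n := by
  classical
  set q := Fintype.card F with hq
  have hP : Nat.card (Cfsg.parabolicGL n F μ)
      = (q - 1) ^ n * q ^ (n.choose 2) * ∏ i, qfac q (μ i) := by
    rw [Nat.card_congr (parEquiv μ hμ), Nat.card_prod, Nat.card_pi, Nat.card_fun,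
      Finset.prod_congr rfl fun a _ => (card_gl_block μ hμ a).trans (card_gl (μ a)),
      Finset.prod_mul_distrib, Finset.prod_mul_distrib, Finset.prod_pow_eq_pow_sum,
      Finset.prod_pow_eq_pow_sum, hμ, ← exponent_eq μ hμ, pow_add, Nat.card_eq_fintype_card (α := F)]
    ring
  have hG := Subgroup.card_eq_card_quotient_mul_card_subgroup (Cfsg.parabolicGL n F μ)
  rw [hP, card_gl n, ← hq] at hG
  have hq2 : 1 < q := Fintype.one_lt_card
  have hpos : 0 < (q - 1) ^ n * q ^ (n.choose 2) :=
    Nat.mul_pos (Nat.pow_pos (by omega)) (Nat.pow_pos (by omega))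
  refine Nat.eq_of_mul_eq_mul_left hpos ?_
  calc _ = Nat.card (GL (Fin n) F ⧸ Cfsg.parabolicGL n F μ) *
        ((q - 1) ^ n * q ^ (n.choose 2) * ∏ i, qfac q (μ i)) := by ring
    _ = _ := hG.symm

end CfsgLib.GLUnip
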