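import Cfsg.Agent.GLUnip.Main
import Cfsg.Agent.GLUnip.Order

/-!
The degree of a unipotent character of the general linear group.
-/

set_option autoImplicit false

namespace CfsgLib.GLUnip

open Finset Polynomial

universe u

variable {n : ℕ} {F : Type u} [Field F] [Fintype F]

/-- quantum integer -/
def qint (q m : ℕ) : ℕ := ∑ l ∈ range m, q ^ l

theorem qint_split (q l m : ℕ) (h : l ≤ m) : qint q m = qint q l + q ^ l * qint q (m - l) := by
  unfold qint
  conv_lhs => rw [← Nat.add_sub_cancel' h, Finset.sum_range_add]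
  rw [Finset.mul_sum]
  simp [pow_add]

/-- monic polynomial with roots at the first quantum integers -/
noncomputable def qpoly (q k : ℕ) : ℂ[X] := ∏ l ∈ range k, (X - C ((qint q l : ℕ) : ℂ))

theorem qpoly_eval (q k m : ℕ) :
    (qpoly q k).eval ((qint q m : ℕ) : ℂ) * (qfac q (m - k) : ℂ)
      = if k ≤ m then (q : ℂ) ^ (∑ l ∈ range k, l) * (qfac q m : ℂ) else 0 := by
  unfold qpoly
  rw [Polynomial.eval_prod]
  simp only [eval_sub, eval_X, eval_C]
  induction k with
  | zero => simp
  | succ k ih =>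
    rw [Finset.prod_range_succ]
    by_cases hk : k + 1 ≤ m
    · rw [if_pos hk]
      rw [if_pos (by omega : k ≤ m)] at ih
      have h1 : qfac q (m - k) = qfac q (m - (k + 1)) * qint q (m - k) := by
        unfold qfac qint
        rw [show m - k = m - (k + 1) + 1 by omega, Finset.prod_range_succ]
      have h2 : ((qint q m : ℕ) : ℂ) - (qint q k : ℕ) = (q : ℂ) ^ k * (qint q (m - k) : ℕ) := by
        rw [qint_split q k m (by omega)]; push_cast; ring
      rw [h1] at ih
      push_cast at ih
      rw [h2, Finset.sum_range_succ, pow_add]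
      linear_combination (q : ℂ) ^ k * ih
    · rw [if_neg hk]
      by_cases hk' : k ≤ m
      · obtain rfl : k = m := by omega
        simp
      · rw [if_neg hk'] at ih
        rcases mul_eq_zero.1 ih with h | h
        · rw [h]; simp
        · exfalso
          rw [show m - k = 0 by omega] at h
          simp [qfac] at h

theorem qpoly_monic (q k : ℕ) : (qpoly q k).Monic :=
  Polynomial.monic_prod_of_monic _ _ fun _ _ => monic_X_sub_C _

theorem qpoly_natDegree (q k : ℕ) : (qpoly q k).natDegree = k := by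
  unfold qpoly
  rw [Polynomial.natDegree_prod_of_monic _ _ (fun _ _ => monic_X_sub_C _),
    Finset.sum_congr rfl fun _ _ => natDegree_X_sub_C _]
  simp

theorem sum_sum_range (n : ℕ) :
    ∑ i ∈ range n, ∑ l ∈ range i, l = n * (n - 1) * (n - 2) / 6 := by
  have h : ∀ m : ℕ, 6 * ∑ i ∈ range m, ∑ l ∈ range i, l = m * (m - 1) * (m - 2) := by
    intro m
    induction m with
    | zero => rfl
    | succ m ih =>
      rw [Finset.sum_range_succ, Nat.mul_add, ih, show (6 : ℕ) = 3 * 2 by rfl, Nat.mul_assoc 3 2,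
        Nat.mul_comm 2 (∑ l ∈ range m, l), Finset.sum_range_id_mul_two]
      match m with
      | 0 => rfl
      | 1 => rfl
      | k + 2 =>
        simp only [Nat.add_sub_cancel, show k + 2 + 1 - 2 = k + 1 by omega,
          show k + 2 - 1 = k + 1 by omega]
        ring
  rw [← h n, Nat.mul_div_cancel_left _ (by norm_num)]

theorem fixed_one {G : Type u} [Group G] (H : Subgroup G) :
    Cfsg.fixedPointCharacter H 1 = (Nat.card (G ⧸ H) : ℂ) := by
  unfold Cfsg.fixedPointCharacter
  congr 1
  exact Nat.card_congr (Equiv.subtypeUnivEquiv fun x => one_smul _ x)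

theorem unip_degree (ν : Fin n → ℕ) (hsum : ∑ i, ν i = n) :
    Cfsg.unipotentCharacterGL n F ν 1 * (Fintype.card F : ℂ) ^ (n * (n - 1) * (n - 2) / 6) *
        ∏ i : Fin n, (qfac (Fintype.card F) (lam ν i) : ℂ) =
      (qfac (Fintype.card F) n : ℂ) * ∏ i : Fin n, ∏ j ∈ Finset.Ioi i,
        (((qint (Fintype.card F) (lam ν j) : ℕ) : ℂ) - (qint (Fintype.card F) (lam ν i) : ℕ)) := by
  classical
  set q := Fintype.card F with hq
  let v : Fin n → ℂ := fun i => ((qint q (lam ν i) : ℕ) : ℂ)
  rw [show (∏ i : Fin n, ∏ j ∈ Finset.Ioi i, (v j - v i)) = (Matrix.vandermonde v).det from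
    (Matrix.det_vandermonde v).symm,
    Matrix.det_eval_matrixOfPolynomials_eq_det_vandermonde v (fun k => qpoly q k.val)
      (fun k => qpoly_natDegree q k.val) (fun k => qpoly_monic q k.val),
    ← Matrix.det_transpose, Matrix.det_apply', Finset.mul_sum]
  unfold Cfsg.unipotentCharacterGL
  rw [Finset.sum_mul, Finset.sum_mul]
  refine Finset.sum_congr rfl fun κ _ => ?_
  simp only [Matrix.transpose_apply, Matrix.of_apply, v]
  have hex : (q : ℂ) ^ (n * (n - 1) * (n - 2) / 6)
      = ∏ i : Fin n, (q : ℂ) ^ (∑ l ∈ range (κ i).val, l) := by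
    rw [Finset.prod_pow_eq_pow_sum, Equiv.sum_comp κ (fun i => ∑ l ∈ range i.val, l),
      Fin.sum_univ_eq_sum_range (fun i => ∑ l ∈ range i, l) n, sum_sum_range]
  have hne : ∀ m, (qfac q m : ℂ) ≠ 0 := by
    intro m
    have : 0 < qfac q m := Finset.prod_pos fun j _ =>
      Finset.sum_pos (fun l _ => Nat.pow_pos Fintype.card_pos) (by simp)
    exact_mod_cast this.ne'
  split
  · rename_i hκ
    rw [fixed_one]
    have hidx := card_cosets (F := F) (fun i => ν i + i.val - (κ i).val) (sum_sub_perm hsum κ hκ)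
    rw [← hq] at hidx
    have hidx' : (Nat.card (GL (Fin n) F ⧸ Cfsg.parabolicGL n F fun i => ν i + i.val - (κ i).val) : ℂ)
        * ∏ i, (qfac q (lam ν i - (κ i).val) : ℂ) = (qfac q n : ℂ) := by exact_mod_cast hidx
    have hev : (∏ i, (qpoly q (κ i).val).eval ((qint q (lam ν i) : ℕ) : ℂ))
        * ∏ i, (qfac q (lam ν i - (κ i).val) : ℂ)
        = (∏ i : Fin n, (q : ℂ) ^ (∑ l ∈ range (κ i).val, l)) * ∏ i, (qfac q (lam ν i) : ℂ) := by
      rw [← Finset.prod_mul_distrib, ← Finset.prod_mul_distrib]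
      refine Finset.prod_congr rfl fun i _ => ?_
      rw [qpoly_eval, if_pos (show (κ i).val ≤ lam ν i from hκ i)]
    refine mul_right_cancel₀ (Finset.prod_ne_zero_iff.2 fun i _ => hne (lam ν i - (κ i).val) :
      (∏ i, (qfac q (lam ν i - (κ i).val) : ℂ)) ≠ 0) ?_
    rw [hex]
    linear_combination (((Equiv.Perm.sign κ : ℤ) : ℂ) *
        ((∏ i : Fin n, (q : ℂ) ^ (∑ l ∈ range (κ i).val, l)) * ∏ i, (qfac q (lam ν i) : ℂ))) * hidx'
      - (((Equiv.Perm.sign κ : ℤ) : ℂ) * (qfac q n : ℂ)) * hev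
  · rename_i hκ
    obtain ⟨i, hi⟩ := not_forall.1 hκ
    have h0 : (qpoly q (κ i).val).eval ((qint q (lam ν i) : ℕ) : ℂ) = 0 := by
      have := qpoly_eval q (κ i).val (lam ν i)
      rw [if_neg (show ¬ (κ i).val ≤ lam ν i from hi)] at this
      exact (mul_eq_zero.1 this).resolve_right (hne _)
    rw [show ∏ i, (qpoly q (κ i).val).eval ((qint q (lam ν i) : ℕ) : ℂ) = 0 from
      Finset.prod_eq_zero (mem_univ i) h0]
    simp

end CfsgLib.GLUnip
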