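import Cfsg.Agent.GLUnip.Basic

/-!
Determinant identity for tables with prescribed margins.
-/

set_option autoImplicit false
set_option linter.unusedSectionVars false

namespace CfsgLib.GLUnip

open Finset

variable {n : ℕ}

local notation "R" => MvPolynomial (Fin n) ℤ

/-- complete symmetric polynomial -/
noncomputable def hpol (n m : ℕ) : MvPolynomial (Fin n) ℤ :=
  ∑ c ∈ Finset.finsuppAntidiag (univ : Finset (Fin n)) m, MvPolynomial.monomial c 1

theorem monomial_eq_prod (c : Fin n →₀ ℕ) :
    (MvPolynomial.monomial c 1 : R) = ∏ i, MvPolynomial.X i ^ c i := by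
  rw [MvPolynomial.monomial_eq, MvPolynomial.C_1, one_mul,
    Finsupp.prod_fintype _ _ (fun i => pow_zero _)]

/-- the geometric series of one variable -/
noncomputable def geo (l : Fin n) : PowerSeries R := PowerSeries.mk fun k => MvPolynomial.X l ^ k

theorem mk_hpol : PowerSeries.mk (hpol n) = ∏ l : Fin n, geo l := by
  ext1 d
  rw [PowerSeries.coeff_mk, PowerSeries.coeff_prod, hpol]
  refine Finset.sum_congr rfl fun c _ => ?_
  rw [monomial_eq_prod]
  exact Finset.prod_congr rfl fun i _ => by rw [geo, PowerSeries.coeff_mk]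

theorem one_sub_mul_geo (l : Fin n) :
    (1 - PowerSeries.C (MvPolynomial.X l : R) * PowerSeries.X) * geo l = 1 := by
  ext1 d
  rw [sub_mul, one_mul, map_sub, mul_assoc, PowerSeries.coeff_C_mul, PowerSeries.coeff_one]
  cases d with
  | zero => simp [geo]
  | succ d =>
    rw [PowerSeries.coeff_succ_X_mul, geo, PowerSeries.coeff_mk, PowerSeries.coeff_mk, pow_succ']
    simp

/-- the product of the linear factors omitting one variable -/
noncomputable def omit1 (i : Fin n) : Polynomial R :=
  ∏ l ∈ univ.erase i, (1 - Polynomial.C (MvPolynomial.X l : R) * Polynomial.X)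

theorem omit1_mul (i : Fin n) :
    (omit1 i : PowerSeries R) * PowerSeries.mk (hpol n) = geo i := by
  rw [mk_hpol, omit1, ← Polynomial.coeToPowerSeries.ringHom_apply, map_prod,
    ← Finset.mul_prod_erase univ geo (mem_univ i), mul_left_comm, ← Finset.prod_mul_distrib]
  rw [Finset.prod_eq_one, mul_one]
  intro l _
  rw [Polynomial.coeToPowerSeries.ringHom_apply, Polynomial.coe_sub, Polynomial.coe_one,
    Polynomial.coe_mul, Polynomial.coe_C, Polynomial.coe_X]
  exact one_sub_mul_geo l

theorem omit1_coeff (i : Fin n) {k : ℕ} (hk : n ≤ k) : (omit1 i).coeff k = 0 := by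
  refine Polynomial.coeff_eq_zero_of_natDegree_lt (lt_of_lt_of_le ?_ hk)
  refine lt_of_le_of_lt (Polynomial.natDegree_prod_le _ _) (lt_of_le_of_lt
    (Finset.sum_le_sum (g := fun _ => 1) fun l _ => ?_) ?_)
  · refine (Polynomial.natDegree_sub_le _ _).trans (max_le ?_ ?_)
    · simp
    · exact (Polynomial.natDegree_C_mul_le _ _).trans Polynomial.natDegree_X_le
  · rw [Finset.sum_const, smul_eq_mul, mul_one, Finset.card_erase_of_mem (mem_univ _),
      Finset.card_univ, Fintype.card_fin]
    exact Nat.sub_lt i.pos Nat.one_pos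

theorem pow_eq_sum (i : Fin n) (m : ℕ) :
    ∑ k : Fin n, (omit1 i).coeff k.val * (if k.val ≤ m then hpol n (m - k.val) else 0)
      = (MvPolynomial.X i : R) ^ m := by
  have h := congrArg (PowerSeries.coeff m) (omit1_mul i)
  rw [geo, PowerSeries.coeff_mk, PowerSeries.coeff_mul,
    Finset.Nat.sum_antidiagonal_eq_sum_range_succ_mk] at h
  simp only [Polynomial.coeff_coe, PowerSeries.coeff_mk] at h
  rw [← h, Fin.sum_univ_eq_sum_range
    (fun k => (omit1 i).coeff k * (if k ≤ m then hpol n (m - k) else 0)) n]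
  rw [Finset.sum_subset (s₂ := range (n + (m + 1))) (Finset.range_subset_range.2 (Nat.le_add_right _ _))
    (fun k _ hk => by rw [omit1_coeff i (by simpa using hk), zero_mul])]
  rw [← Finset.sum_subset (s₁ := range (m + 1)) (Finset.range_subset_range.2 (Nat.le_add_left _ _))
    (fun k _ hk => by rw [if_neg (by simpa using hk), mul_zero])]
  refine Finset.sum_congr rfl fun k hk => ?_
  rw [if_pos (by simpa [Nat.lt_succ_iff] using hk)]

/-- the generalised Vandermonde matrix -/
noncomputable def vmat (l : Fin n → ℕ) : Matrix (Fin n) (Fin n) R :=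
  Matrix.of fun i j => MvPolynomial.X i ^ l j

/-- the matrix of complete symmetric polynomials -/
noncomputable def hmat (l : Fin n → ℕ) : Matrix (Fin n) (Fin n) R :=
  Matrix.of fun k j => if k.val ≤ l j then hpol n (l j - k.val) else 0

/-- the coefficient matrix -/
noncomputable def cmat (n : ℕ) : Matrix (Fin n) (Fin n) (MvPolynomial (Fin n) ℤ) :=
  Matrix.of fun i k => (omit1 i).coeff k.val

theorem cmat_mul (l : Fin n → ℕ) : cmat n * hmat l = vmat l := by
  ext1 i j
  exact pow_eq_sum i (l j)

theorem hpol_zero : hpol n 0 = 1 := by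
  simp [hpol, Finset.finsuppAntidiag_zero]

theorem det_vmat (l : Fin n → ℕ) :
    (vmat l).det = (vmat fun j : Fin n => j.val).det * (hmat l).det := by
  rw [← cmat_mul l, ← cmat_mul fun j : Fin n => j.val, Matrix.det_mul, Matrix.det_mul]
  have h : (hmat fun j : Fin n => j.val).det = 1 := by
    rw [Matrix.det_of_isUpperTriangular]
    · exact Finset.prod_eq_one fun k _ => by simp [hmat, hpol_zero]
    · intro k j hjk
      simp only [hmat, Matrix.of_apply]
      exact if_neg (not_le.2 hjk)
  rw [h, mul_one]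

theorem det_vmat_expand (l : Fin n → ℕ) :
    (vmat l).det = ∑ σ : Equiv.Perm (Fin n), MvPolynomial.monomial
      (Finsupp.equivFunOnFinite.symm (fun i => l (σ i))) ((Equiv.Perm.sign σ : ℤ)) := by
  rw [← Matrix.det_transpose, Matrix.det_apply']
  refine Finset.sum_congr rfl fun σ _ => ?_
  have h : ∏ i, (vmat l).transpose (σ i) i
      = (MvPolynomial.monomial (Finsupp.equivFunOnFinite.symm fun i => l (σ i)) 1 : R) := by
    rw [monomial_eq_prod]
    rfl
  rw [h, ← map_intCast (MvPolynomial.C : ℤ →+* R), MvPolynomial.C_mul_monomial, mul_one]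
  simp

theorem coeff_prod_hpol (α β : Fin n → ℕ) :
    MvPolynomial.coeff (Finsupp.equivFunOnFinite.symm α) (∏ j, hpol n (β j)) = (N α β : ℤ) := by
  classical
  unfold hpol
  rw [Finset.prod_univ_sum, MvPolynomial.coeff_sum]
  have hm : ∀ p : Fin n → (Fin n →₀ ℕ), (∏ j, MvPolynomial.monomial (p j) (1 : ℤ))
      = MvPolynomial.monomial (∑ j, p j) 1 := by
    intro p
    rw [MvPolynomial.monomial_sum_index, MvPolynomial.C_1, one_mul]
  simp only [hm, MvPolynomial.coeff_monomial]
  rw [Finset.sum_boole, N]
  norm_cast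
  rw [← Nat.card_eq_finsetCard]
  refine Nat.card_congr ?_
  refine
    { toFun := fun p => ⟨fun a b => p.1 b a, fun a => ?_, fun b => ?_⟩
      invFun := fun M => ⟨fun b => Finsupp.equivFunOnFinite.symm fun a => M.1 a b, ?_⟩
      left_inv := fun p => by ext b a; rfl
      right_inv := fun M => by apply Subtype.ext; rfl }
  · have h := DFunLike.congr_fun (mem_filter.1 p.2).2 a
    simpa using h
  · have h := Fintype.mem_piFinset.1 (mem_filter.1 p.2).1 b
    simpa using (Finset.mem_finsuppAntidiag.1 h).1
  · refine mem_filter.2 ⟨Fintype.mem_piFinset.2 fun b => Finset.mem_finsuppAntidiag.2 ⟨?_, subset_univ _⟩, ?_⟩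
    · simpa using M.2.2 b
    · ext a
      simpa using M.2.1 a

/-- the signed sum over pairs of permutations -/
noncomputable def pairing (l l' : Fin n → ℕ) : ℤ :=
  ∑ κ : Equiv.Perm (Fin n), ∑ σ : Equiv.Perm (Fin n),
    if (∀ i, (κ i).val ≤ l i) ∧ (∀ i, (σ i).val ≤ l' i) then
      (Equiv.Perm.sign κ : ℤ) * (Equiv.Perm.sign σ : ℤ) *
        (N (fun i => l i - (κ i).val) (fun i => l' i - (σ i).val) : ℤ)
    else 0

theorem det_hmat_expand (l : Fin n → ℕ) :
    (hmat l).det = ∑ σ : Equiv.Perm (Fin n),
      if ∀ i, (σ i).val ≤ l i then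
        MvPolynomial.C (Equiv.Perm.sign σ : ℤ) * ∏ i, hpol n (l i - (σ i).val) else 0 := by
  rw [Matrix.det_apply']
  refine Finset.sum_congr rfl fun σ _ => ?_
  split
  · rename_i h
    rw [Finset.prod_congr rfl fun i _ => show hmat l (σ i) i = hpol n (l i - (σ i).val) by
      simp [hmat, h i]]
    simp
  · rename_i h
    obtain ⟨i, hi⟩ := not_forall.1 h
    exact mul_eq_zero_of_right _ (Finset.prod_eq_zero (mem_univ i) (if_neg hi))

theorem pairing_eq {l l' : Fin n → ℕ} (hl : StrictMono l) (hl' : StrictMono l') :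
    pairing l l' = if l = l' then 1 else 0 := by
  classical
  have h := congrArg (MvPolynomial.coeff (Finsupp.equivFunOnFinite.symm l)) (det_vmat l')
  rw [det_vmat_expand, det_vmat_expand, det_hmat_expand, MvPolynomial.coeff_sum, Finset.sum_mul,
    MvPolynomial.coeff_sum] at h
  have hR : pairing l l' = ∑ κ : Equiv.Perm (Fin n), MvPolynomial.coeff (Finsupp.equivFunOnFinite.symm l)
      (MvPolynomial.monomial (Finsupp.equivFunOnFinite.symm fun i => (κ i).val) (Equiv.Perm.sign κ : ℤ) *
        ∑ σ : Equiv.Perm (Fin n), if ∀ i, (σ i).val ≤ l' i then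
          MvPolynomial.C (Equiv.Perm.sign σ : ℤ) * ∏ i, hpol n (l' i - (σ i).val) else 0) := by
    unfold pairing
    refine Finset.sum_congr rfl fun κ _ => ?_
    rw [MvPolynomial.coeff_monomial_mul']
    by_cases hκ : ∀ i, (κ i).val ≤ l i
    · rw [if_pos (by intro i; exact hκ i), MvPolynomial.coeff_sum, Finset.mul_sum]
      refine Finset.sum_congr rfl fun σ _ => ?_
      by_cases hσ : ∀ i, (σ i).val ≤ l' i
      · rw [if_pos ⟨hκ, hσ⟩, if_pos hσ, MvPolynomial.coeff_C_mul,
          show Finsupp.equivFunOnFinite.symm l - Finsupp.equivFunOnFinite.symm (fun i => (κ i).val)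
            = Finsupp.equivFunOnFinite.symm (fun i => l i - (κ i).val) by ext i; simp,
          coeff_prod_hpol]
        ring
      · rw [if_neg (fun h => hσ h.2), if_neg hσ, MvPolynomial.coeff_zero, mul_zero]
    · rw [if_neg (fun h => hκ (fun i => by simpa using h i))]
      exact Finset.sum_eq_zero fun σ _ => if_neg fun h => hκ h.1
  rw [hR, ← h]
  simp only [MvPolynomial.coeff_monomial, EmbeddingLike.apply_eq_iff_eq]
  have key : ∀ σ : Equiv.Perm (Fin n), (fun i => l' (σ i)) = l ↔ σ = 1 ∧ l = l' := by
    intro σ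
    constructor
    · intro e
      have hr : Set.range l = Set.range l' := by
        rw [← e]; exact σ.surjective.range_comp l'
      have hll := (StrictMono.range_inj hl hl').1 hr
      refine ⟨Equiv.ext fun i => hl'.injective ?_, hll⟩
      rw [Equiv.Perm.one_apply]
      exact (congrFun e i).trans (congrFun hll i)
    · rintro ⟨rfl, rfl⟩; rfl
  simp only [key]
  by_cases hll : l = l' <;> simp [hll]

end CfsgLib.GLUnip
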