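import Cfsg.Agent.GLUnip.Bruhat
import Cfsg.Agent.GLUnip.Jacobi

/-!
The alternating sums of parabolic coset characters have norm one and positive sign.
-/

set_option autoImplicit false
set_option linter.unusedSectionVars false

namespace CfsgLib.GLUnip

open Finset CfsgLib.Char
open scoped ComplexConjugate CfsgLib.Char

universe u

variable {n : ℕ} {F : Type u} [Field F]

theorem isCharacter_fixed {G : Type u} [Group G] [Finite G] (H : Subgroup G) :
    Cfsg.IsCharacter G (Cfsg.fixedPointCharacter H) := by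
  classical
  haveI := Fintype.ofFinite G
  haveI := Fintype.ofFinite (G ⧸ H)
  have h := CfsgLib.Perm.PermChar.perm_char (G := G) (Ω := G ⧸ H)
  unfold Cfsg.fixedPointCharacter
  rw [← h]
  exact isCharacter_of_rep _

theorem isGen_sum {G : Type u} [Group G] [Finite G] {ι : Type*} (s : Finset ι) (f : ι → G → ℂ)
    (hf : ∀ i ∈ s, Cfsg.IsGeneralizedCharacter G (f i)) :
    Cfsg.IsGeneralizedCharacter G (∑ i ∈ s, f i) := by
  refine Finset.sum_induction _ (Cfsg.IsGeneralizedCharacter G) ?_
    ⟨0, 0, isCharacter_zero, isCharacter_zero, by simp⟩ hf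
  rintro _ _ ⟨a, b, ha, hb, rfl⟩ ⟨c, d, hc, hd, rfl⟩
  exact ⟨a + c, b + d, isCharacter_add ha hc, isCharacter_add hb hd, by abel⟩

/-- shifted parts -/
def lam (ν : Fin n → ℕ) : Fin n → ℕ := fun i => ν i + i.val

theorem lam_strictMono {ν : Fin n → ℕ} (h : Monotone ν) : StrictMono (lam ν) :=
  fun i j hij => Nat.add_lt_add_of_le_of_lt (h hij.le) hij

theorem sum_sub_perm {ν : Fin n → ℕ} (hν : ∑ i, ν i = n) (κ : Equiv.Perm (Fin n))
    (h : ∀ i, (κ i).val ≤ ν i + i.val) : ∑ i, (ν i + i.val - (κ i).val) = n := by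
  have h1 : ∑ i, (ν i + i.val - (κ i).val) + ∑ i, (κ i).val = ∑ i, (ν i + i.val) := by
    rw [← Finset.sum_add_distrib]
    exact Finset.sum_congr rfl fun i _ => Nat.sub_add_cancel (h i)
  rw [Finset.sum_add_distrib, Equiv.sum_comp κ (fun i => i.val), hν] at h1
  omega

variable [Fintype F]

theorem unip_eq (ν : Fin n → ℕ) :
    Cfsg.unipotentCharacterGL n F ν = ∑ κ : Equiv.Perm (Fin n),
      if ∀ i : Fin n, (κ i).val ≤ ν i + i.val then
        ((Equiv.Perm.sign κ : ℤ) : ℂ) • Cfsg.fixedPointCharacter
          (Cfsg.parabolicGL n F fun i => ν i + i.val - (κ i).val)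
      else 0 := by
  funext g
  rw [Finset.sum_apply]
  refine Finset.sum_congr rfl fun κ _ => ?_
  split <;> simp

theorem unip_gen (ν : Fin n → ℕ) :
    Cfsg.IsGeneralizedCharacter (GL (Fin n) F) (Cfsg.unipotentCharacterGL n F ν) := by
  classical
  rw [unip_eq]
  refine isGen_sum _ _ fun κ _ => ?_
  split
  · rcases Int.units_eq_one_or (Equiv.Perm.sign κ) with h | h <;> rw [h]
    · exact ⟨_, 0, isCharacter_fixed
        (Cfsg.parabolicGL n F fun i => ν i + i.val - (κ i).val), isCharacter_zero, by simp⟩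
    · exact ⟨0, _, isCharacter_zero, isCharacter_fixed
        (Cfsg.parabolicGL n F fun i => ν i + i.val - (κ i).val), by simp⟩
  · exact ⟨0, 0, isCharacter_zero, isCharacter_zero, by simp⟩

theorem inner_fixed [Fintype (GL (Fin n) F)] (α β : Fin n → ℕ) (hα : ∑ i, α i = n)
    (hβ : ∑ i, β i = n) :
    Cfsg.classInner (Cfsg.fixedPointCharacter (Cfsg.parabolicGL n F α))
      (Cfsg.fixedPointCharacter (Cfsg.parabolicGL n F β)) = N α β := by
  rw [← avg_parabolic (F := F) α β hα hβ, classInner_def]
  refine congrArg _ (Finset.sum_congr rfl fun g _ => ?_)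
  simp [Cfsg.fixedPointCharacter]

theorem inner_unip [Fintype (GL (Fin n) F)] {ν ν' : Fin n → ℕ} (hmono : Monotone ν)
    (hsum : ∑ i, ν i = n) (hmono' : Monotone ν') (hsum' : ∑ i, ν' i = n) :
    Cfsg.classInner (Cfsg.unipotentCharacterGL n F ν) (Cfsg.unipotentCharacterGL n F ν')
      = if ν = ν' then 1 else 0 := by
  classical
  have hp := congrArg (fun z : ℤ => (z : ℂ))
    (pairing_eq (lam_strictMono hmono) (lam_strictMono hmono'))
  have hll : lam ν = lam ν' ↔ ν = ν' := by
    refine ⟨fun h => funext fun i => ?_, fun h => by rw [h]⟩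
    exact Nat.add_right_cancel (congrFun h i)
  simp only [hll, apply_ite (fun z : ℤ => (z : ℂ)), Int.cast_one, Int.cast_zero] at hp
  rw [← hp, unip_eq (F := F) ν, unip_eq (F := F) ν', classInner_sum_left]
  unfold pairing lam
  push_cast
  refine Finset.sum_congr rfl fun κ _ => ?_
  rw [classInner_sum_right]
  refine Finset.sum_congr rfl fun σ _ => ?_
  by_cases hκ : ∀ i : Fin n, (κ i).val ≤ ν i + i.val
  · by_cases hσ : ∀ i : Fin n, (σ i).val ≤ ν' i + i.val
    · rw [if_pos hκ, if_pos hσ, if_pos ⟨hκ, hσ⟩, classInner_smul_left, classInner_smul_right,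
        inner_fixed _ _ (sum_sub_perm hsum κ hκ) (sum_sub_perm hsum' σ hσ)]
      rw [map_intCast, mul_assoc]
    · rw [if_pos hκ, if_neg hσ, if_neg (fun h : _ ∧ _ => hσ h.2), classInner_zero_right]
  · rw [if_neg hκ, if_neg (fun h : _ ∧ _ => hκ h.1), classInner_zero_left]

theorem hpol_one : hpol n 1 = ∑ i : Fin n, MvPolynomial.X i := by
  classical
  unfold hpol
  refine (Finset.sum_bij (fun i _ => Finsupp.single i 1) (fun i _ => ?_) (fun i _ j _ h => ?_)
    (fun c hc => ?_) (fun i _ => rfl)).symm
  · refine Finset.mem_finsuppAntidiag.2 ⟨?_, subset_univ _⟩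
    simp [Finsupp.single_apply]
  · exact Finsupp.single_left_injective one_ne_zero h
  · obtain ⟨i, hi⟩ := (Finsupp.sum_eq_one_iff c).1 (by
      rw [Finsupp.sum_fintype _ _ (fun _ => rfl)]
      simpa using (Finset.mem_finsuppAntidiag.1 hc).1)
    exact ⟨i, mem_univ _, hi.symm⟩

theorem multinomial_coeff : ∀ (m : ℕ) (α : Fin n →₀ ℕ), (∑ i, α i = m) →
    (MvPolynomial.coeff α ((∑ i : Fin n, (MvPolynomial.X i : MvPolynomial (Fin n) ℤ)) ^ m))
      * ((∏ i, (α i).factorial : ℕ) : ℤ) = (m.factorial : ℤ) := by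
  classical
  intro m
  induction m with
  | zero =>
    intro α h
    have : α = 0 := by
      ext i; exact (Finset.sum_eq_zero_iff.1 h) i (mem_univ i)
    subst this
    simp
  | succ m ih =>
    intro α h
    rw [pow_succ', Finset.sum_mul, MvPolynomial.coeff_sum, Finset.sum_mul]
    have hstep : ∀ i, MvPolynomial.coeff α (MvPolynomial.X i *
        (∑ j : Fin n, (MvPolynomial.X j : MvPolynomial (Fin n) ℤ)) ^ m)
        * ((∏ j, (α j).factorial : ℕ) : ℤ) = (α i : ℤ) * m.factorial := by
      intro i
      rw [MvPolynomial.coeff_X_mul']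
      split
      · rename_i hi
        have hi0 : α i ≠ 0 := Finsupp.mem_support_iff.1 hi
        have hs : ∑ j, (α - Finsupp.single i 1 : Fin n →₀ ℕ) j = m := by
          have e : ∀ j, (α - Finsupp.single i 1 : Fin n →₀ ℕ) j + Finsupp.single i 1 j = α j := by
            intro j
            simp only [Finsupp.tsub_apply, Finsupp.single_apply]
            split_ifs with hij
            · subst hij; omega
            · simp
          have := Finset.sum_congr rfl (fun j (_ : j ∈ (univ : Finset (Fin n))) => e j)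
          rw [Finset.sum_add_distrib, h] at this
          simp [Finsupp.single_apply] at this ⊢
          omega
        have hfac : ∏ j, (α j).factorial
            = α i * ∏ j, ((α - Finsupp.single i 1 : Fin n →₀ ℕ) j).factorial := by
          rw [← Finset.mul_prod_erase univ _ (mem_univ i),
            ← Finset.mul_prod_erase univ (fun j => ((α - Finsupp.single i 1 : Fin n →₀ ℕ) j).factorial)
              (mem_univ i), ← mul_assoc]
          congr 1
          · simp [Nat.mul_factorial_pred hi0]
          · refine Finset.prod_congr rfl fun j hj => ?_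
            simp [Finsupp.single_eq_of_ne (Finset.ne_of_mem_erase hj)]
        rw [hfac, Nat.cast_mul, mul_left_comm, ih _ hs]
      · rename_i hi
        simp [Finsupp.notMem_support_iff.1 hi]
    rw [Finset.sum_congr rfl fun i _ => hstep i, ← Finset.sum_mul, ← Nat.cast_sum, h,
      Nat.factorial_succ, Nat.cast_mul]

theorem N_ones (α : Fin n → ℕ) (h : ∑ i, α i = n) :
    N α (fun _ => 1) * ∏ i, (α i).factorial = n.factorial := by
  have h1 := coeff_prod_hpol α (fun _ : Fin n => 1)
  rw [Finset.prod_const, Finset.card_univ, Fintype.card_fin, hpol_one] at h1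
  have h2 := multinomial_coeff n (Finsupp.equivFunOnFinite.symm α) (by simpa using h)
  rw [h1] at h2
  exact_mod_cast h2

theorem signed_sum_pos {ν : Fin n → ℕ} (hmono : Monotone ν) (hsum : ∑ i, ν i = n) :
    0 < ∑ κ : Equiv.Perm (Fin n), if ∀ i, (κ i).val ≤ ν i + i.val then
      (Equiv.Perm.sign κ : ℤ) * (N (fun i => ν i + i.val - (κ i).val) (fun _ => 1) : ℤ) else 0 := by
  classical
  set S := ∑ κ : Equiv.Perm (Fin n), if ∀ i, (κ i).val ≤ ν i + i.val then
      (Equiv.Perm.sign κ : ℤ) * (N (fun i => ν i + i.val - (κ i).val) (fun _ => 1) : ℤ) else 0 with hS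
  let v : Fin n → ℤ := fun i => (lam ν i : ℤ)
  let M : Matrix (Fin n) (Fin n) ℤ :=
    Matrix.of fun i k => ((descPochhammer ℤ k.val).eval (v i) : ℤ)
  have hM : ∀ i k, M i k = ((lam ν i).descFactorial k.val : ℤ) := fun i k => by
    simp [M, v, descPochhammer_eval_eq_descFactorial]
  have hdet : 0 < M.det := by
    have : M.det = (Matrix.vandermonde v).det :=
      (Matrix.det_eval_matrixOfPolynomials_eq_det_vandermonde v (fun k => descPochhammer ℤ k.val)
        (fun k => descPochhammer_natDegree ℤ k.val) (fun k => monic_descPochhammer ℤ k.val)).symm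
    rw [this, Matrix.det_vandermonde]
    refine Finset.prod_pos fun i _ => Finset.prod_pos fun j hj => ?_
    have := lam_strictMono hmono (Finset.mem_Ioi.1 hj)
    simp only [v]
    omega
  have hprod : S * ((∏ i, (lam ν i).factorial : ℕ) : ℤ) = (n.factorial : ℤ) * M.det := by
    rw [← Matrix.det_transpose, Matrix.det_apply', hS, Finset.sum_mul, Finset.mul_sum]
    refine Finset.sum_congr rfl fun κ _ => ?_
    simp only [Matrix.transpose_apply, hM]
    split
    · rename_i hκ
      have h1 : ∏ i, (lam ν i).factorial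
          = (∏ i, (lam ν i - (κ i).val).factorial) * ∏ i, (lam ν i).descFactorial (κ i).val := by
        rw [← Finset.prod_mul_distrib]
        exact Finset.prod_congr rfl fun i _ => (Nat.factorial_mul_descFactorial (hκ i)).symm
      have h2 : (N (fun i => ν i + i.val - (κ i).val) (fun _ => 1) : ℤ)
          * ((∏ i, (lam ν i - (κ i).val).factorial : ℕ) : ℤ) = (n.factorial : ℤ) := by
        exact_mod_cast N_ones _ (sum_sub_perm hsum κ hκ)
      rw [h1, Nat.cast_mul, Nat.cast_prod (f := fun i => (lam ν i).descFactorial (κ i).val)]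
      simp only [Int.cast_id]
      linear_combination ((Equiv.Perm.sign κ : ℤ) *
        ∏ i, ((lam ν i).descFactorial (κ i).val : ℤ)) * h2
    · rename_i hκ
      obtain ⟨i, hi⟩ := not_forall.1 hκ
      rw [show ∏ i, (((lam ν i).descFactorial (κ i).val : ℕ) : ℤ) = 0 from
        Finset.prod_eq_zero (mem_univ i) (by
          rw [Nat.descFactorial_eq_zero_iff_lt.2 (show lam ν i < (κ i).val from not_le.1 hi)]; rfl)]
      simp
  have hpos : (0 : ℤ) < ((∏ i, (lam ν i).factorial : ℕ) : ℤ) := by
    exact_mod_cast Finset.prod_pos fun i _ => Nat.factorial_pos _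
  have h2 : 0 < S * ((∏ i, (lam ν i).factorial : ℕ) : ℤ) := by
    rw [hprod]; exact mul_pos (by exact_mod_cast Nat.factorial_pos _) hdet
  exact (mul_pos_iff_of_pos_right hpos).1 h2

theorem unip_irr {ν : Fin n → ℕ} (hmono : Monotone ν) (hsum : ∑ i, ν i = n) :
    Cfsg.IsIrrCharacter (GL (Fin n) F) (Cfsg.unipotentCharacterGL n F ν) := by
  classical
  haveI := Fintype.ofFinite (GL (Fin n) F)
  rcases isIrr_or_neg_of_norm (unip_gen ν)
    (by rw [inner_unip (F := F) hmono hsum hmono hsum, if_pos rfl]) with h | h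
  · exact h
  exfalso
  have h1 : ∑ i : Fin n, (fun _ : Fin n => (1 : ℕ)) i = n := by simp
  obtain ⟨a, ha⟩ := inner_char_char
    (isCharacter_fixed (Cfsg.parabolicGL n F fun _ : Fin n => 1)) (isCharacter_of_isIrr h)
  have hval : Cfsg.classInner (Cfsg.unipotentCharacterGL n F ν)
      (Cfsg.fixedPointCharacter (Cfsg.parabolicGL n F fun _ : Fin n => 1))
      = ((∑ κ : Equiv.Perm (Fin n), if ∀ i, (κ i).val ≤ ν i + i.val then
      (Equiv.Perm.sign κ : ℤ) * (N (fun i => ν i + i.val - (κ i).val) (fun _ => 1) : ℤ)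
        else 0 : ℤ) : ℂ) := by
    rw [unip_eq (F := F) ν, classInner_sum_left]
    push_cast
    refine Finset.sum_congr rfl fun κ _ => ?_
    split
    · rename_i hκ
      rw [classInner_smul_left, inner_fixed _ _ (sum_sub_perm hsum κ hκ) h1]
    · exact classInner_zero_left _
  have hc := congrArg conj ha
  rw [classInner_conj, classInner_neg_left, hval, map_natCast] at hc
  have hz := signed_sum_pos hmono hsum
  norm_cast at hc
  omega

end CfsgLib.GLUnip
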